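import Mathlib
import Cfsg.Agent.Lib.HSLocal.Data

/-!
Computations in the involution centralizer `(4 ∘ 2^{1+4}).S₅` of the Higman–Sims group, and what it
means for a group to carry this centralizer.

An element is a code `64 * p + r`. The part `r = 16 * j + b` stands for `c ^ j` times the product, in
increasing order, of the involutions `x i` with bit `i` in `b`; `c` is central of order four in this part,
`c ^ 2` is the central involution, the `x i` commute except `[x 0, x 2] = [x 1, x 3] = c ^ 2`.
The part `p` numbers the permutations of five points in lexicographic order.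
-/

set_option autoImplicit false
set_option maxRecDepth 100000
set_option maxHeartbeats 4000000

namespace Cfsg.Agent.HSLocal

universe v

/-- An entry of a packed table. -/
def pget (t w j : ℕ) : ℕ := (t >>> (w * j)) % 2 ^ w

/-- An entry of a table given by packed rows in groups of eight. -/
def rget (T : List (List ℕ)) (w i j : ℕ) : ℕ := pget ((T.getD (i / 8) []).getD (i % 8) 0) w j

/-- The part in the normal two-group. -/
def qp (a : ℕ) : ℕ := a % 64

/-- The permutation part. -/
def pp (a : ℕ) : ℕ := a / 64 % 120

/-- A product in the normal two-group. -/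
def qmul (a b : ℕ) : ℕ := rget Data.qtab 6 a b

/-- An inverse in the normal two-group. -/
def qinv (a : ℕ) : ℕ := pget Data.qinv 6 a

/-- The action of the representative of a permutation on the normal two-group. -/
def act (p q : ℕ) : ℕ := rget Data.act 6 p q

/-- A product of two permutations. -/
def pmul (p r : ℕ) : ℕ := rget Data.ptab 7 p r

/-- The factor set. -/
def coc (p r : ℕ) : ℕ := rget Data.coc 6 p r

/-- The image of a point. -/
def img (p i : ℕ) : ℕ := pget Data.img 3 (p * 5 + i)

/-- The product of two codes. -/
def mul (a b : ℕ) : ℕ :=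
  pmul (pp a) (pp b) * 64 + qmul (qmul (qp a) (act (pp a) (qp b))) (coc (pp a) (pp b))

/-- The inverse of a code. -/
def inv (a : ℕ) : ℕ :=
  pget Data.pinv 7 (pp a) * 64 +
    qmul (qinv (coc (pget Data.pinv 7 (pp a)) (pp a))) (act (pget Data.pinv 7 (pp a)) (qinv (qp a)))

/-- A conjugate. -/
def cj (g a : ℕ) : ℕ := mul (mul g a) (inv g)

/-- The code of the central involution. -/
def zc : ℕ := 32

/-- The code of `x 0`. -/
def x0 : ℕ := 1

/-- The code of `x 2`, an element exchanging `x 0` and its product with the central involution. -/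
def ec : ℕ := 4

theorem pmul_lt : ∀ p < 120, ∀ r < 120, pmul p r < 120 := by decide +kernel

theorem inv_ok : ∀ a < 7680, inv a < 7680 ∧ mul (inv a) a = 0 := by decide +kernel

theorem qp_lt (a : ℕ) : qp a < 64 := Nat.mod_lt _ (by norm_num)

theorem pp_lt (a : ℕ) : pp a < 120 := Nat.mod_lt _ (by norm_num)

theorem qmul_lt (a b : ℕ) : qmul a b < 64 := Nat.mod_lt _ (by norm_num)

theorem mul_lt (a b : ℕ) : mul a b < 7680 := by
  have h1 := pmul_lt _ (pp_lt a) _ (pp_lt b)
  have h2 := qmul_lt (qmul (qp a) (act (pp a) (qp b))) (coc (pp a) (pp b))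
  unfold mul
  omega

/-- The codes are coordinates of the centralizer of `t`. -/
structure Coord {G : Type v} [Group G] (t : G) (ρ : ℕ → G) : Prop where
  mul_eq : ∀ a b, a < 7680 → b < 7680 → ρ (mul a b) = ρ a * ρ b
  zc_eq : ρ zc = t
  inj : ∀ a < 7680, ρ a = 1 → a = 0
  mem : ∀ a < 7680, ρ a * t = t * ρ a
  surj : ∀ g : G, g * t = t * g → ∃ a < 7680, ρ a = g

end Cfsg.Agent.HSLocal
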