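import Mathlib
import Cfsg.Agent.Lib.HSLocal.Model
import Cfsg.Agent.Lib.HSLocal.AData

/-!
Coordinates of the centralizer as a homomorphism on all codes, words in seven generators, and the change of
coordinates by an outer automorphism.
-/

set_option autoImplicit false
set_option maxRecDepth 100000

namespace Cfsg.Agent.HSLocal

universe v

variable {G : Type v} [Group G]

theorem qp_mod (a : ℕ) : qp (a % 7680) = qp a := by unfold qp; omega

theorem pp_mod (a : ℕ) : pp (a % 7680) = pp a := by unfold pp; omega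

theorem mul_mod (a b : ℕ) : mul (a % 7680) (b % 7680) = mul a b := by
  simp only [mul, qp_mod, pp_mod]

/-- Coordinates defined on all natural numbers. -/
structure Hom (t : G) (ρ : ℕ → G) : Prop where
  mul_eq : ∀ a b, ρ (mul a b) = ρ a * ρ b
  zero : ρ 0 = 1
  mod_eq : ∀ a, ρ (a % 7680) = ρ a
  zc_eq : ρ zc = t
  inj : ∀ a < 7680, ρ a = 1 → a = 0
  mem : ∀ a, ρ a * t = t * ρ a
  surj : ∀ g : G, g * t = t * g → ∃ a < 7680, ρ a = g

theorem mul_zero_zero : mul 0 0 = 0 := by decide +kernel

/-- Coordinates extend to all natural numbers. -/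
theorem Coord.hom {t : G} {ρ : ℕ → G} (C : Coord t ρ) : Hom t fun a => ρ (a % 7680) := by
  have hlt : ∀ a, a % 7680 < 7680 := fun a => Nat.mod_lt a (by norm_num)
  refine ⟨fun a b => ?_, ?_, fun a => ?_, C.zc_eq, fun a ha h => ?_, fun a => C.mem _ (hlt a), fun g hg => ?_⟩
  · show ρ (mul a b % 7680) = ρ (a % 7680) * ρ (b % 7680)
    rw [Nat.mod_eq_of_lt (mul_lt a b), ← C.mul_eq _ _ (hlt a) (hlt b), mul_mod]
  · show ρ (0 % 7680) = 1
    have h := C.mul_eq 0 0 (by norm_num) (by norm_num)
    rw [mul_zero_zero] at h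
    rw [Nat.zero_mod]
    exact left_eq_mul.1 h
  · show ρ (a % 7680 % 7680) = ρ (a % 7680)
    rw [Nat.mod_mod]
  · exact C.inj a ha (by rw [← Nat.mod_eq_of_lt ha]; exact h)
  · obtain ⟨a, ha, e⟩ := C.surj g hg
    exact ⟨a, ha, by show ρ (a % 7680) = g; rw [Nat.mod_eq_of_lt ha]; exact e⟩

/-- A check on an initial segment. -/
theorem all_range {n : ℕ} {f : ℕ → Bool} (h : (List.range n).all f = true) {a : ℕ} (ha : a < n) : f a = true :=
  List.all_eq_true.1 h a (List.mem_range.2 ha)

theorem pmul_zero_ok : ((List.range 120).all fun r => (List.range 120).all fun p =>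
    !Nat.beq (pmul p r) 0 || Nat.beq p (pget Data.pinv 7 r)) = true := by decide +kernel

theorem qcancel_ok : ((List.range 64).all fun r => (List.range 64).all fun q =>
    Nat.beq (qmul (qmul q r) (qinv r)) q) = true := by decide +kernel

theorem inv_right_ok : ((List.range 7680).all fun b => Nat.beq (mul b (inv b)) 0) = true := by decide +kernel

theorem cancel_facts : (∀ r < 120, ∀ p < 120, Nat.beq (pmul p r) 0 = true → p = pget Data.pinv 7 r) ∧
    (∀ r < 64, ∀ q < 64, qmul (qmul q r) (qinv r) = q) ∧ (∀ p < 120, ∀ q < 64, act p q < 64) ∧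
    (∀ p < 120, ∀ r < 120, coc p r < 64) ∧ ∀ b < 7680, mul b (inv b) = 0 := by
  refine ⟨fun r hr p hp e => ?_, fun r hr q hq => Nat.eq_of_beq_eq_true (all_range (all_range qcancel_ok hr) hq),
    fun p _ q _ => Nat.mod_lt _ (by norm_num), fun p _ r _ => Nat.mod_lt _ (by norm_num),
    fun b hb => Nat.eq_of_beq_eq_true (all_range inv_right_ok hb)⟩
  have h := all_range (all_range pmul_zero_ok hr) hp
  rw [e] at h
  exact Nat.eq_of_beq_eq_true h

theorem left_inverse_unique {x y : ℕ} (hx : x < 7680) (hy : y < 7680) (c : ℕ) (ex : mul x c = 0)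
    (ey : mul y c = 0) : x = y := by
  obtain ⟨h1, h2, h3, h4, -⟩ := cancel_facts
  have key : ∀ x : ℕ, mul x c = 0 → pp x = pget Data.pinv 7 (pp c) ∧
      qp x = qmul (qmul 0 (qinv (coc (pp x) (pp c)))) (qinv (act (pp x) (qp c))) := by
    intro x e
    have hp := pmul_lt _ (pp_lt x) _ (pp_lt c)
    have hq := qmul_lt (qmul (qp x) (act (pp x) (qp c))) (coc (pp x) (pp c))
    unfold mul at e
    have e1 : pmul (pp x) (pp c) = 0 := by omega
    have e2 : qmul (qmul (qp x) (act (pp x) (qp c))) (coc (pp x) (pp c)) = 0 := by omega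
    refine ⟨h1 _ (pp_lt c) _ (pp_lt x) (by rw [e1]; rfl), ?_⟩
    conv_rhs => rw [← e2, h2 _ (h4 _ (pp_lt x) _ (pp_lt c)) _ (qmul_lt _ _),
      h2 _ (h3 _ (pp_lt x) _ (qp_lt c)) _ (qp_lt x)]
  obtain ⟨p1, q1⟩ := key x ex
  obtain ⟨p2, q2⟩ := key y ey
  rw [← p2] at p1
  rw [p1, ← q2] at q1
  unfold pp at p1
  unfold qp at q1
  omega

namespace Hom

variable {t : G} {ρ : ℕ → G} (C : Hom t ρ)

include C

theorem inv_eq (a : ℕ) : ρ (inv a) = (ρ a)⁻¹ := by
  have h : inv a = inv (a % 7680) := by simp only [inv, qp_mod, pp_mod]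
  rw [h, ← C.mod_eq a]
  exact eq_inv_of_mul_eq_one_left (by rw [← C.mul_eq, (inv_ok _ (Nat.mod_lt a (by norm_num))).2, C.zero])

theorem inj' {a b : ℕ} (ha : a < 7680) (hb : b < 7680) (e : ρ a = ρ b) : a = b :=
  left_inverse_unique ha hb (inv b) (C.inj _ (mul_lt _ _) (by rw [C.mul_eq, e, C.inv_eq, mul_inv_cancel]))
    (cancel_facts.2.2.2.2 b hb)

theorem cj_eq (g a : ℕ) : ρ (cj g a) = ρ g * ρ a * (ρ g)⁻¹ := by rw [cj, C.mul_eq, C.mul_eq, C.inv_eq]

end Hom

/-- A word at given images. -/
def ev (im : ℕ → ℕ) : List ℕ → ℕ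
  | [] => 0
  | k :: w => mul (im k) (ev im w)

theorem ev_lt (im : ℕ → ℕ) : ∀ w : List ℕ, ev im w < 7680
  | [] => by simp [ev]
  | _ :: _ => mul_lt _ _

/-- The seven generators. -/
def gc (k : ℕ) : ℕ := AData.gens.getD k 0

/-- A word for a code. -/
def codeWord (a : ℕ) : List ℕ := AData.rWords.getD (qp a) [] ++ AData.pWords.getD (pp a) []

theorem codeWord_check : ((List.range 7680).all fun a =>
    Nat.beq (ev gc (codeWord a)) a && (codeWord a).all fun k => Nat.blt k 7) = true := by decide +kernel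

theorem codeWord_ok : ∀ a < 7680, ev gc (codeWord a) = a ∧ ∀ k ∈ codeWord a, k < 7 := fun a ha => by
  have h := all_range codeWord_check ha
  simp only [Bool.and_eq_true, List.all_eq_true] at h
  exact ⟨Nat.eq_of_beq_eq_true h.1, fun k hk => by simpa [Nat.blt] using h.2 k hk⟩

/-- The outer automorphism. -/
def outer (a : ℕ) : ℕ := rget AData.outer 13 (pp a) (qp a)

/-- Its inverse. -/
def outerInv (a : ℕ) : ℕ := rget AData.outerInv 13 (pp a) (qp a)

/-- The outer automorphism respects left multiplication by a generator. -/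
def outerStep (k : ℕ) : Bool :=
  (List.range 7680).all fun a => Nat.beq (outer (mul (gc k) a)) (mul (outer (gc k)) (outer a))

theorem outerStep_zero : outerStep 0 = true := by decide +kernel
theorem outerStep_one : outerStep 1 = true := by decide +kernel
theorem outerStep_two : outerStep 2 = true := by decide +kernel
theorem outerStep_three : outerStep 3 = true := by decide +kernel
theorem outerStep_four : outerStep 4 = true := by decide +kernel
theorem outerStep_five : outerStep 5 = true := by decide +kernel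
theorem outerStep_six : outerStep 6 = true := by decide +kernel

theorem outer_gens : ∀ k < 7, ∀ a < 7680, outer (mul (gc k) a) = mul (outer (gc k)) (outer a) := by
  intro k hk a ha
  refine Nat.eq_of_beq_eq_true (all_range (f := fun a =>
    Nat.beq (outer (mul (gc k) a)) (mul (outer (gc k)) (outer a))) ?_ ha)
  interval_cases k
  exacts [outerStep_zero, outerStep_one, outerStep_two, outerStep_three, outerStep_four, outerStep_five,
    outerStep_six]

theorem outer_base : outer 0 = 0 ∧ outer zc = zc ∧ outer x0 = x0 := by decide +kernel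

theorem outer_inv_check : ((List.range 7680).all fun a => Nat.blt (outer a) 7680 &&
    Nat.beq (outerInv (outer a)) a && Nat.blt (outerInv a) 7680 && Nat.beq (outer (outerInv a)) a) = true := by
  decide +kernel

theorem outer_inv : ∀ a < 7680, outer a < 7680 ∧ outerInv (outer a) = a ∧ outerInv a < 7680 ∧
    outer (outerInv a) = a := fun a ha => by
  have h := all_range outer_inv_check ha
  simp only [Bool.and_eq_true] at h
  exact ⟨by simpa [Nat.blt] using h.1.1.1, Nat.eq_of_beq_eq_true h.1.1.2, by simpa [Nat.blt] using h.1.2,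
    Nat.eq_of_beq_eq_true h.2⟩

namespace Hom

variable {t : G} {ρ : ℕ → G} (C : Hom t ρ)

include C

theorem zero_mul' {a : ℕ} (ha : a < 7680) : mul 0 a = a :=
  C.inj' (mul_lt _ _) ha (by rw [C.mul_eq, C.zero, one_mul])

theorem assoc (a b c : ℕ) : mul (mul a b) c = mul a (mul b c) :=
  C.inj' (mul_lt _ _) (mul_lt _ _) (by simp only [C.mul_eq, mul_assoc])

theorem ev_prod (im : ℕ → ℕ) : ∀ w : List ℕ, ρ (ev im w) = (w.map fun k => ρ (im k)).prod
  | [] => by simp [ev, C.zero]
  | k :: w => by rw [List.map_cons, List.prod_cons, ← ev_prod im w, ← C.mul_eq]; rfl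

theorem outer_mul : ∀ (w : List ℕ), (∀ k ∈ w, k < 7) → ∀ b < 7680,
    ρ (outer (mul (ev gc w) b)) = ρ (outer (ev gc w)) * ρ (outer b)
  | [], _, b, hb => by
    rw [show ev gc [] = 0 from rfl, C.zero_mul' hb, outer_base.1, C.zero, one_mul]
  | k :: w, hw, b, hb => by
    have ih := outer_mul w (fun j hj => hw j (List.mem_cons_of_mem _ hj)) b hb
    show ρ (outer (mul (mul (gc k) (ev gc w)) b)) = ρ (outer (mul (gc k) (ev gc w))) * _
    rw [C.assoc, outer_gens k (hw k List.mem_cons_self) _ (mul_lt _ _),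
      outer_gens k (hw k List.mem_cons_self) _ (ev_lt _ _), C.mul_eq, C.mul_eq, ih, mul_assoc]

/-- The coordinates changed by the outer automorphism. -/
theorem twisted : Hom t fun a => ρ (outer (a % 7680)) := by
  have hlt : ∀ a, a % 7680 < 7680 := fun a => Nat.mod_lt a (by norm_num)
  refine ⟨fun a b => ?_, ?_, fun a => ?_, ?_, fun a ha h => ?_, fun a => C.mem _, fun g hg => ?_⟩
  · show ρ (outer (mul a b % 7680)) = ρ (outer (a % 7680)) * ρ (outer (b % 7680))
    obtain ⟨e, hw⟩ := codeWord_ok _ (hlt a)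
    have := C.outer_mul _ hw _ (hlt b)
    rwa [e, mul_mod, ← Nat.mod_eq_of_lt (mul_lt a b)] at this
  · show ρ (outer (0 % 7680)) = 1
    rw [Nat.zero_mod, outer_base.1, C.zero]
  · show ρ (outer (a % 7680 % 7680)) = ρ (outer (a % 7680))
    rw [Nat.mod_mod]
  · show ρ (outer (zc % 7680)) = t
    rw [show zc % 7680 = zc from rfl, outer_base.2.1, C.zc_eq]
  · have h' : ρ (outer a) = 1 := by rw [← Nat.mod_eq_of_lt ha]; exact h
    have := C.inj _ (outer_inv a ha).1 h'
    rw [← (outer_inv a ha).2.1, this]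
    rfl
  · obtain ⟨a, ha, e⟩ := C.surj g hg
    refine ⟨outerInv a, (outer_inv a ha).2.2.1, ?_⟩
    show ρ (outer (outerInv a % 7680)) = g
    rw [Nat.mod_eq_of_lt (outer_inv a ha).2.2.1, (outer_inv a ha).2.2.2, e]

end Hom

end Cfsg.Agent.HSLocal
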