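import Mathlib
import Cfsg.Agent.Lib.Involutions.Basic

/-!
A subgroup that contains the centralizer of an involution `t` and whose other involutions form one
class is everything, under hypotheses that only concern the centralizer of `t`. This replaces the
determination of the centralizer of the second class in the recognition of the Higman-Sims group.
-/

set_option autoImplicit false
set_option linter.unusedSectionVars false

namespace Cfsg.Agent.HSLocal

open Subgroup
open Cfsg.Agent.Involutions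

universe v

variable {G : Type v} [Group G]

/-- The number of elements commuting with two given elements. -/
noncomputable def jointCard (a b : G) : ℕ := Nat.card {g : G // g * a = a * g ∧ g * b = b * g}

theorem jointCard_conj (g a b : G) : jointCard (g * a * g⁻¹) (g * b * g⁻¹) = jointCard a b := by
  have hmul : ∀ x y : G, g * x * g⁻¹ * (g * y * g⁻¹) = g * (x * y) * g⁻¹ := fun x y => by group
  refine (Nat.card_congr ((MulAut.conj g).toEquiv.subtypeEquiv fun x => ?_)).symm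
  show x * a = a * x ∧ x * b = b * x ↔
    g * x * g⁻¹ * (g * a * g⁻¹) = g * a * g⁻¹ * (g * x * g⁻¹) ∧
      g * x * g⁻¹ * (g * b * g⁻¹) = g * b * g⁻¹ * (g * x * g⁻¹)
  simp only [hmul, mul_left_inj, mul_right_inj]

theorem jointCard_comm (a b : G) : jointCard a b = jointCard b a :=
  Nat.card_congr ⟨fun x => ⟨x.1, x.2.2, x.2.1⟩, fun x => ⟨x.1, x.2.2, x.2.1⟩, fun _ => rfl, fun _ => rfl⟩

/-- Two non-conjugate involutions have a common central involution whose product with either is conjugate to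
one of them inside any subgroup containing both. -/
theorem exists_middle [Finite G] (X : Subgroup G) {x y : G} (hx : orderOf x = 2) (hy : orderOf y = 2)
    (hxX : x ∈ X) (hyX : y ∈ X) (hn : ∀ g ∈ X, g * x * g⁻¹ ≠ y) :
    ∃ z ∈ X, orderOf z = 2 ∧ z * x = x * z ∧ z * y = y * z ∧
      ∃ g ∈ X, g * x * g⁻¹ = x * z ∨ g * y * g⁻¹ = x * z := by
  have hxyX : x * y ∈ X := mul_mem hxX hyX
  have heven : Even (orderOf (x * y)) := by
    by_contra hc
    obtain ⟨d, hd, hde⟩ := Basic.exists_conj_of_odd hx hy (Nat.not_even_iff_odd.1 hc)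
    exact hn d (zpowers_le.2 hxyX hd) hde
  obtain ⟨h1, h2, h3⟩ := Basic.middle_involution hx hy heven
  set m := orderOf (x * y) / 2
  refine ⟨(x * y) ^ m, pow_mem hxyX m, h1, h2.eq, h3.eq, ?_⟩
  rcases Int.even_or_odd' (m : ℤ) with ⟨j, hj | hj⟩
  · refine ⟨(x * y) ^ (-j), zpow_mem hxyX _, Or.inl ?_⟩
    rw [Basic.zpow_conj_left hx hy, ← zpow_natCast, hj]
    congr 2
    ring
  · refine ⟨(x * y) ^ (-j), zpow_mem hxyX _, Or.inr ?_⟩
    have e : (x * y) ^ (-j) * y * ((x * y) ^ (-j))⁻¹ =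
        (x * y) ^ (-j) * x * ((x * y) ^ (-j))⁻¹ * ((x * y) ^ (-j) * (x * y) * ((x * y) ^ (-j))⁻¹) := by
      have hxx := Basic.inv_sq_one hx
      calc (x * y) ^ (-j) * y * ((x * y) ^ (-j))⁻¹
          = (x * y) ^ (-j) * (x * x * y) * ((x * y) ^ (-j))⁻¹ := by rw [hxx, one_mul]
        _ = _ := by group
    rw [e, Basic.zpow_conj_left hx hy, ← zpow_natCast, hj,
      show (x * y) ^ (-j) * (x * y) * ((x * y) ^ (-j))⁻¹ = (x * y) ^ (1 : ℤ) by
        rw [← zpow_neg, ← zpow_add_one, ← zpow_add, show -j + 1 + -(-j) = 1 by ring], mul_assoc, ← zpow_add]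
    congr 2
    ring

/-- The hypotheses of the endgame: `G₀` contains the centralizer of `t`; its involutions are conjugate in it
to `t` or to `w`; `u` is a second representative of the class of `w`. All other conditions concern the
centralizer of `t`. -/
structure Endgame (G₀ : Subgroup G) (t w u : G) : Prop where
  ot : orderOf t = 2
  cent : ∀ g : G, g * t = t * g → g ∈ G₀
  two : ∀ x ∈ G₀, orderOf x = 2 →
    (∃ g ∈ G₀, g * t * g⁻¹ = x) ∨ ∃ g ∈ G₀, g * w * g⁻¹ = x
  square : ∃ s, s * t = t * s ∧ s * w = w * s ∧ s * s = t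
  no_square : ∀ x, orderOf x = 2 → x * t = t * x → jointCard t x = jointCard t w →
    ¬ ∃ s, s * t = t * s ∧ s * x = x * s ∧ s * s = x
  one_class : ∀ x, orderOf x = 2 → x * t = t * x → jointCard t x = jointCard t w →
    ∃ k, k * t = t * k ∧ k * x * k⁻¹ = w
  ow : orderOf w = 2
  wt : w * t = t * w
  ut : u * t = t * u
  uw : ∃ g ∈ G₀, g * w * g⁻¹ = u
  tuw : ∃ g ∈ G₀, g * w * g⁻¹ = t * u
  card_ne : jointCard t u ≠ jointCard t w
  middle : ∀ z, orderOf z = 2 → z * t = t * z → z * u = u * z → z ≠ u →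
    (∃ g ∈ G₀, g * t * g⁻¹ = z) ∨ ∃ g ∈ G₀, g * t * g⁻¹ = z * u

namespace Endgame

variable [Finite G] {G₀ : Subgroup G} {t w u : G} (E : Endgame G₀ t w u)

include E

theorem not_conj : ¬ IsConj t w := by
  intro h
  obtain ⟨g, hg⟩ := isConj_iff.1 h
  set x := g⁻¹ * t * g with hx
  have ho : orderOf x = 2 := by
    have := Basic.orderOf_conj g⁻¹ t
    rwa [inv_inv, E.ot] at this
  have hgw : g⁻¹ * w * g = t := by rw [← hg]; group
  have hxt : x * t = t * x := by
    rw [← hgw, hx]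
    calc g⁻¹ * t * g * (g⁻¹ * w * g) = g⁻¹ * (t * w) * g := by group
      _ = g⁻¹ * (w * t) * g := by rw [E.wt]
      _ = _ := by group
  have hc : jointCard t x = jointCard t w := by
    have := jointCard_conj g⁻¹ w t
    rw [inv_inv, hgw] at this
    rw [hx, this, jointCard_comm]
  obtain ⟨s, h1, h2, h3⟩ := E.square
  refine E.no_square x ho hxt hc ⟨g⁻¹ * s * g, ?_, ?_, ?_⟩
  · rw [← hgw]
    calc g⁻¹ * s * g * (g⁻¹ * w * g) = g⁻¹ * (s * w) * g := by group
      _ = g⁻¹ * (w * s) * g := by rw [h2]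
      _ = _ := by group
  · rw [hx]
    calc g⁻¹ * s * g * (g⁻¹ * t * g) = g⁻¹ * (s * t) * g := by group
      _ = g⁻¹ * (t * s) * g := by rw [h1]
      _ = _ := by group
  · rw [hx]
    calc g⁻¹ * s * g * (g⁻¹ * s * g) = g⁻¹ * (s * s) * g := by group
      _ = _ := by rw [h3]

omit [Finite G] in
theorem t_mem : t ∈ G₀ := E.cent t rfl

omit [Finite G] in
theorem mem_of_cent_t_conj {z b : G} (hz : ∃ g ∈ G₀, g * t * g⁻¹ = z) (hb : b * z = z * b) : b ∈ G₀ := by
  obtain ⟨g, hg, rfl⟩ := hz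
  have h : g⁻¹ * b * g ∈ G₀ := E.cent _ (by
    calc g⁻¹ * b * g * t = g⁻¹ * (b * (g * t * g⁻¹)) * g := by group
      _ = g⁻¹ * (g * t * g⁻¹ * b) * g := by rw [hb]
      _ = _ := by group)
  have := mul_mem (mul_mem hg h) (inv_mem hg)
  rwa [show g * (g⁻¹ * b * g) * g⁻¹ = b by group] at this

theorem t_type {x : G} (hx : x ∈ G₀) (ho : orderOf x = 2) (hc : IsConj t x) : ∃ g ∈ G₀, g * t * g⁻¹ = x := by
  rcases E.two x hx ho with h | ⟨g, -, hg⟩
  · exact h
  · exact absurd (hc.trans (isConj_iff.2 ⟨g, hg⟩).symm) E.not_conj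

/-- The centralizer of `u` lies in `G₀`. -/
theorem cent_u {g : G} (hg : g * u = u * g) : g ∈ G₀ := by
  obtain ⟨g₀, hg₀, hgu⟩ := E.uw
  set a := g₀ * t * g₀⁻¹ with ha
  have ha2 : orderOf a = 2 := by rw [ha, Basic.orderOf_conj, E.ot]
  have hau : a * u = u * a := by
    rw [ha, ← hgu]
    calc g₀ * t * g₀⁻¹ * (g₀ * w * g₀⁻¹) = g₀ * (t * w) * g₀⁻¹ := by group
      _ = g₀ * (w * t) * g₀⁻¹ := by rw [E.wt]
      _ = _ := by group
  have hac : jointCard a u = jointCard t w := by rw [ha, ← hgu, jointCard_conj]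
  set b := g * a * g⁻¹ with hb
  have hgu' : g * u * g⁻¹ = u := by rw [hg, mul_inv_cancel_right]
  have hb2 : orderOf b = 2 := by rw [hb, Basic.orderOf_conj, ha2]
  have hbc : IsConj t b := (isConj_iff.2 ⟨g₀, rfl⟩).trans (isConj_iff.2 ⟨g, rfl⟩)
  have hbu : b * u = u * b := by
    rw [hb, ← hgu']
    calc g * a * g⁻¹ * (g * u * g⁻¹) = g * (a * u) * g⁻¹ := by group
      _ = g * (u * a) * g⁻¹ := by rw [hau]
      _ = _ := by group
  have hbcard : jointCard b u = jointCard t w := by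
    have := jointCard_conj g a u
    rwa [hgu', ← hb, hac] at this
  have hn : ∀ k ∈ centralizer ({u} : Set G), k * t * k⁻¹ ≠ b := by
    intro k hk e
    have hku : k * u * k⁻¹ = u := by rw [mem_centralizer_singleton_iff.1 hk, mul_inv_cancel_right]
    have := jointCard_conj k t u
    rw [e, hku, hbcard] at this
    exact E.card_ne this.symm
  obtain ⟨z, hzX, hz2, hzt, hzb, k, -, hk⟩ := exists_middle (centralizer ({u} : Set G)) E.ot hb2
    (mem_centralizer_singleton_iff.2 E.ut.symm) (mem_centralizer_singleton_iff.2 hbu) hn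
  have hbG : b ∈ G₀ := by
    by_cases hzu : z = u
    · exfalso
      obtain ⟨h, -, hh⟩ := E.tuw
      have hcu : IsConj t (t * z) := by
        rcases hk with e | e
        · exact isConj_iff.2 ⟨k, e⟩
        · exact hbc.trans (isConj_iff.2 ⟨k, e⟩)
      rw [hzu] at hcu
      exact E.not_conj (hcu.trans (isConj_iff.2 ⟨h, hh⟩).symm)
    · rcases E.middle z hz2 hzt (mem_centralizer_singleton_iff.1 hzX) hzu with h | h
      · exact E.mem_of_cent_t_conj h hzb.symm
      · refine E.mem_of_cent_t_conj h ?_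
        rw [← mul_assoc, ← hzb, mul_assoc, hbu, ← mul_assoc]
  obtain ⟨h, hh, hhb⟩ := E.t_type hbG hb2 hbc
  -- the pair `(b, u)` is conjugate to `(a, u)` inside `G₀`
  set x := h⁻¹ * u * h with hx
  have hxt : x * t = t * x := by
    rw [hx]
    calc h⁻¹ * u * h * t = h⁻¹ * (u * (h * t * h⁻¹)) * h := by group
      _ = h⁻¹ * (h * t * h⁻¹ * u) * h := by rw [hhb, hbu]
      _ = _ := by group
  have hu2 : orderOf u = 2 := by rw [← hgu, Basic.orderOf_conj, E.ow]
  have hx2 : orderOf x = 2 := by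
    have := Basic.orderOf_conj h⁻¹ u
    rwa [inv_inv, hu2] at this
  have hxc : jointCard t x = jointCard t w := by
    have := jointCard_conj h t x
    rw [hhb, hx, show h * (h⁻¹ * u * h) * h⁻¹ = u by group, hbcard] at this
    exact this.symm
  obtain ⟨q, hqt, hq⟩ := E.one_class x hx2 hxt hxc
  set y := g₀ * q * h⁻¹ with hy
  have hy₀ : y ∈ G₀ := mul_mem (mul_mem hg₀ (E.cent q hqt)) (inv_mem hh)
  have hyb : y * b * y⁻¹ = a := by
    rw [hy, ← hhb, ha]
    calc g₀ * q * h⁻¹ * (h * t * h⁻¹) * (g₀ * q * h⁻¹)⁻¹ = g₀ * (q * t) * q⁻¹ * g₀⁻¹ := by group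
      _ = g₀ * (t * q) * q⁻¹ * g₀⁻¹ := by rw [hqt]
      _ = _ := by group
  have hyg : y * g ∈ G₀ := E.mem_of_cent_t_conj ⟨g₀, hg₀, rfl⟩ (mul_inv_eq_iff_eq_mul.1 (by
    calc y * g * a * (y * g)⁻¹ = y * (g * a * g⁻¹) * y⁻¹ := by group
      _ = a := hyb))
  simpa using mul_mem (inv_mem hy₀) hyg

/-- The subgroup is the whole group. -/
theorem eq_top : G₀ = ⊤ := by
  obtain ⟨g₀, hg₀, hgu⟩ := E.uw
  have hu2 : orderOf u = 2 := by rw [← hgu, Basic.orderOf_conj, E.ow]
  refine eq_top_iff.2 fun g _ => ?_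
  set b := g * t * g⁻¹ with hb
  have hb2 : orderOf b = 2 := by rw [hb, Basic.orderOf_conj, E.ot]
  have hn : ∀ k ∈ (⊤ : Subgroup G), k * u * k⁻¹ ≠ b := fun k _ e =>
    E.not_conj ((isConj_iff.2 ⟨g, rfl⟩ : IsConj t b).trans
      ((isConj_iff.2 ⟨g₀, hgu⟩ : IsConj w u).trans (isConj_iff.2 ⟨k, e⟩)).symm)
  obtain ⟨z, -, hz2, hzu, hzb, -⟩ := exists_middle ⊤ hu2 hb2 (mem_top u) (mem_top b) hn
  have hzG : z ∈ G₀ := E.cent_u hzu
  have hbG : b ∈ G₀ := by
    rcases E.two z hzG hz2 with h | ⟨h, hh, hhz⟩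
    · exact E.mem_of_cent_t_conj h hzb.symm
    · -- `z` is conjugate to `u` inside `G₀`
      set k := g₀ * h⁻¹ with hk
      have hkz : k * z * k⁻¹ = u := by rw [hk, ← hhz, ← hgu]; group
      have h1 : k * b * k⁻¹ ∈ G₀ := E.cent_u (by
        rw [← hkz]
        calc k * b * k⁻¹ * (k * z * k⁻¹) = k * (b * z) * k⁻¹ := by group
          _ = k * (z * b) * k⁻¹ := by rw [hzb]
          _ = _ := by group)
      have hk₀ : k ∈ G₀ := mul_mem hg₀ (inv_mem hh)
      have := mul_mem (mul_mem (inv_mem hk₀) h1) hk₀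
      rwa [show k⁻¹ * (k * b * k⁻¹) * k = b by group] at this
  obtain ⟨h, hh, hhb⟩ := E.t_type hbG hb2 (isConj_iff.2 ⟨g, rfl⟩)
  have h1 : h⁻¹ * g ∈ G₀ := E.cent _ (mul_inv_eq_iff_eq_mul.1 (by
    show h⁻¹ * g * t * (h⁻¹ * g)⁻¹ = t
    rw [show h⁻¹ * g * t * (h⁻¹ * g)⁻¹ = h⁻¹ * (g * t * g⁻¹) * h by group, ← hb, ← hhb]
    group))
  simpa using mul_mem hh h1

end Endgame

end Cfsg.Agent.HSLocal
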